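import Groth.Agent.JacVar.K219.TraceClosed
import Groth.Agent.AbVar.K515.Bc
import Groth.Agent.AbVar.K521.BcTate
import Groth.Agent.RefCh.K939.IntNumBC
import Groth.Agent.Ega2.QCohLocal
import Groth.Agent.AbVar.K524.PicInv

/-!
# Descent of the trace formula
-/

set_option autoImplicit false
universe u

open CategoryTheory Limits MonoidalCategory CartesianMonoidalCategory AlgebraicGeometry
open scoped MonObj
open Groth.Agent Groth.Agent.Grpsch.PicGrp Groth.Agent.Grpsch.Cube
open Groth.Agent.Sga7.H761.BaseChg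
open K518.Phi K518.AVNum K515.Bc

namespace K219.TraceBc

variable {k : Type u} [Field k] (Ω : Type u) [Field Ω] [Algebra k Ω] {X Y : Over (Spec (CommRingCat.of k))}

theorem adjn_comp_right {T : Over (Spec (CommRingCat.of Ω))} (a : T ⟶ bc Ω X) (u : X ⟶ Y) :
    adjn Ω (a ≫ bcHom Ω u) = adjn Ω a ≫ u :=
  (Over.mapPullbackAdj (fKL k Ω)).homEquiv_naturality_right_symm a u

theorem bcHom_mul [GrpObj Y] (f g : X ⟶ Y) : bcHom Ω (f * g) = bcHom Ω f * bcHom Ω g := by
  apply ((Over.mapPullbackAdj (fKL k Ω)).homEquiv _ _).symm.injective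
  change adjn Ω _ = adjn Ω _
  rw [adjn_mul, ← Category.id_comp (bcHom Ω (f * g)), ← Category.id_comp (bcHom Ω f), ← Category.id_comp (bcHom Ω g),
    adjn_comp_right, adjn_comp_right, adjn_comp_right, MonObj.comp_mul]

theorem bcHom_id : bcHom Ω (𝟙 X) = 𝟙 (bc Ω X) := (Over.pullback (fKL k Ω)).map_id X

theorem pull_pr (u : X ⟶ Y) (c : Pic Y.left) : pull (pr Ω X) (pull u.left c) = pl (bcHom Ω u) (pull (pr Ω Y) c) := by
  rw [← pull_comp, ← bcHom_pr, pull_comp]

/-- The class `D` and base change. -/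
theorem pull_D [GrpObj Y] (c : Pic Y.left) (f g : X ⟶ Y) :
    pull (pr Ω X) (pull (f * g).left c⁻¹ * (pull f.left c * pull g.left c)) =
      (K518.Phi.D (pull (pr Ω Y) c) (bcHom Ω f) (bcHom Ω g))⁻¹ := by
  rw [map_mul, map_mul, pull_pr, pull_pr, pull_pr, K518.Phi.D, bcHom_mul, map_inv, map_inv]
  apply Additive.ofMul.injective
  simp only [ofMul_mul, ofMul_inv]
  abel

section

variable (A : Over (Spec (CommRingCat.of k))) [GrpObj A] [IsProper A.hom] [GeometricallyIntegral A.hom]
  [i : A.left.Over (Spec (CommRingCat.of k))] (hA : A.left ↘ Spec (CommRingCat.of k) = A.hom)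

include hA in
/-- Base change of intersection numbers. -/
theorem intNum_eq (r : ℕ) (hr : topologicalKrullDim (bc Ω A).left = r)
    (M : Fin r → A.left.Modules) (hM : ∀ i, PicF.IsInvertible (M i)) :
    FGA.intNum k A.left r M (Coh.structureModule A.left) =
      JA hr (fun i => Additive.ofMul ((pull (pr Ω A) (mk (M i) (hM i)))⁻¹)) := by
  have : CompactSpace A.left := by
    have : QuasiCompact A.hom := inferInstance
    exact QuasiCompact.compactSpace_of_compactSpace A.hom
  have : QuasiSeparatedSpace A.left := quasiSeparatedSpace_of_quasiSeparated A.hom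
  have hpb : IsPullback (pr Ω A) ((bc Ω A).left ↘ Spec (CommRingCat.of Ω)) (A.left ↘ Spec (CommRingCat.of k)) (fKL k Ω) := by
    rw [hA]
    exact isPullback_pr Ω A
  rw [← K939.IntNumBC.intNum_pullback k A.left Ω (bc Ω A).left (pr Ω A) (fKL k Ω) hpb r M
    (fun i => Ega2.QCohLocal.isQCoh_of_isInvertible (hM i)) (Coh.structureModule A.left) (Fdesc.StructMod.isQCoh_structureModule A.left)]
  rw [K939.IntNumBC.intNum_congr Ω (bc Ω A).left (fun i => ⟨Iso.refl _⟩) (K939.FlatDual.unitIso (pr Ω A)) r,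
    K518.IntMul.J_apply, Pic13.H970.IntForm.intNum_eq]
  congr 1
  funext i
  rw [toMul_ofMul, inv_inv]
  rfl

end

section tate

open AbDual

variable (A : Over (Spec (CommRingCat.of k))) [GrpObj A] [IsCommMonObj A] [IsProper A.hom] [GeometricallyIntegral A.hom]
  (l : ℕ) [Fact l.Prime]

/-- The trace on the Tate module and base change. -/
theorem trace_eq (α : A ⟶ A) [IsMonHom α] :
    LinearMap.trace ℤ_[l] (TateMod A l (SGA7.pt (K := k) Ω)) (tateMapₗ α) =
      LinearMap.trace ℤ_[l] (TateMod (bc Ω A) l (Over.mk (𝟙 (Spec (CommRingCat.of Ω))))) (tateMapₗ (bcHom Ω α)) := by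
  let e : TateMod (bc Ω A) l (Over.mk (𝟙 (Spec (CommRingCat.of Ω)))) ≃ₗ[ℤ_[l]] TateMod A l (SGA7.pt (K := k) Ω) :=
    K521.BcTate.tateCongr l (ptE Ω (X := A))
  have h : e.conj (tateMapₗ (bcHom Ω α)) = tateMapₗ α := by
    refine LinearMap.ext fun z => ?_
    obtain ⟨w, rfl⟩ := e.surjective z
    rw [LinearEquiv.conj_apply_apply, LinearEquiv.symm_apply_apply]
    exact TateMod.ext fun n => congrArg Additive.ofMul (ptE_comp Ω α _)
  rw [← h, LinearMap.trace_conj']

end tate

section main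

open AbDual K519.Trace

variable [IsAlgClosed Ω]
variable (A : Over (Spec (CommRingCat.of k))) [GrpObj A] [IsCommMonObj A] [IsProper A.hom] [GeometricallyIntegral A.hom]
  [i : A.left.Over (Spec (CommRingCat.of k))] (hA : A.left ↘ Spec (CommRingCat.of k) = A.hom)

/-- In dimension zero the trace is zero. -/
theorem trace_zero {A : Over (Spec (CommRingCat.of Ω))} [GrpObj A] [IsCommMonObj A] [IsProper A.hom]
    [GeometricallyIntegral A.hom] (h0 : topologicalKrullDim A.left = (0 : ℕ)) (l : ℕ) [Fact l.Prime] (hl : (l : Ω) ≠ 0)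
    (f : TateMod A l (Over.mk (𝟙 (Spec (CommRingCat.of Ω)))) →ₗ[ℤ_[l]] TateMod A l (Over.mk (𝟙 (Spec (CommRingCat.of Ω))))) :
    LinearMap.trace ℤ_[l] _ f = 0 := by
  have := K519.TateFree.finite A l hl
  have := K519.TateFree.free A l hl
  have h1 := K519.TateFree.finrank_eq A l hl 0 h0
  rw [mul_zero] at h1
  have h2 : Subsingleton (TateMod A l (Over.mk (𝟙 (Spec (CommRingCat.of Ω))))) := Module.finrank_zero_iff.mp h1
  have h3 : f = 0 := LinearMap.ext fun x => Subsingleton.elim _ _
  rw [h3, map_zero]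

include hA in
theorem main (g : ℕ) (hg : topologicalKrullDim ↥A.left = g)
    (L Linv : A.left.Modules) (hL : PicF.IsInvertible L) (eL : CohB1.tensorMod L Linv ≅ Coh.structureModule A.left)
    (α : A ⟶ A) [IsMonHom α] (l : ℕ) [Fact l.Prime] (hl : (l : k) ≠ 0) :
    (LinearMap.trace ℤ_[l] (TateMod A l (SGA7.pt (K := k) Ω)) (tateMapₗ α)) *
      (FGA.intNum k A.left g (fun _ : Fin g => Linv) (Coh.structureModule A.left) : ℤ_[l]) =
    (g : ℤ_[l]) * (FGA.intNum k A.left g
      (fun i : Fin g => if (i : ℕ) = 0 then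
        CohB1.tensorMod ((Scheme.Modules.pullback (α * 𝟙 A).left).obj Linv)
          (CohB1.tensorMod ((Scheme.Modules.pullback α.left).obj L) L)
        else Linv) (Coh.structureModule A.left) : ℤ_[l]) := by
  have hLinv := K524.PicInv.isInvertible_of_inv hL eL
  have hmk : mk Linv hLinv = (mk L hL)⁻¹ := K524.PicInv.mk_inv_of hL hLinv eL
  have hr : topologicalKrullDim (bc Ω A).left = g := (dim_bc Ω A).trans hg
  have hlΩ : (l : Ω) ≠ 0 := by
    rw [← map_natCast (algebraMap k Ω)]
    exact (map_ne_zero (algebraMap k Ω)).mpr hl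
  rw [trace_eq Ω A l α]
  rcases Nat.eq_zero_or_pos g with rfl | hg1
  · rw [trace_zero Ω hr l hlΩ, zero_mul, Nat.cast_zero, zero_mul]
  set c : Pic A.left := mk L hL with hc
  have e1 : FGA.intNum k A.left g (fun _ : Fin g => Linv) (Coh.structureModule A.left) =
      JA hr (fun _ => Additive.ofMul (pull (pr Ω A) c)) := by
    rw [intNum_eq Ω A hA g hr _ (fun _ => hLinv)]
    congr 1
    funext j
    rw [hmk, map_inv (pull (pr Ω A)), inv_inv]
  have hD : PicF.IsInvertible (CohB1.tensorMod ((Scheme.Modules.pullback (α * 𝟙 A).left).obj Linv)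
      (CohB1.tensorMod ((Scheme.Modules.pullback α.left).obj L) L)) :=
    Fdesc.LocGen.isInvertible_tensorMod (Fdesc.LocGen.isInvertible_pullback _ hLinv)
      (Fdesc.LocGen.isInvertible_tensorMod (Fdesc.LocGen.isInvertible_pullback _ hL) hL)
  have hM : ∀ j : Fin g, PicF.IsInvertible (if (j : ℕ) = 0 then
        CohB1.tensorMod ((Scheme.Modules.pullback (α * 𝟙 A).left).obj Linv)
          (CohB1.tensorMod ((Scheme.Modules.pullback α.left).obj L) L)
        else Linv) := by
    intro j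
    split_ifs
    · exact hD
    · exact hLinv
  have hmkD : mk _ hD = pull (α * 𝟙 A).left c⁻¹ * (pull α.left c * pull (𝟙 A : A ⟶ A).left c) := by
    rw [Over.id_left, pull_id, ← hmk, hc, pull_mk, pull_mk, mk_mul_mk, mk_mul_mk]
  have e2 : FGA.intNum k A.left g
      (fun i : Fin g => if (i : ℕ) = 0 then
        CohB1.tensorMod ((Scheme.Modules.pullback (α * 𝟙 A).left).obj Linv)
          (CohB1.tensorMod ((Scheme.Modules.pullback α.left).obj L) L)
        else Linv) (Coh.structureModule A.left) =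
      JA hr (Function.update (fun _ => Additive.ofMul (pull (pr Ω A) c)) ⟨0, hg1⟩
        (Additive.ofMul (K518.Phi.D (pull (pr Ω A) c) (bcHom Ω α) (𝟙 (bc Ω A))))) := by
    rw [intNum_eq Ω A hA g hr _ hM]
    congr 1
    funext j
    by_cases hj : j = ⟨0, hg1⟩
    · subst hj
      rw [Function.update_self]
      have h1 : mk _ (hM ⟨0, hg1⟩) = mk _ hD := mk_congr (eqToIso (if_pos rfl))
      rw [h1, hmkD, pull_D, inv_inv, bcHom_id]
    · rw [Function.update_of_ne hj]
      have hj0 : ¬ ((j : ℕ) = 0) := fun h => hj (Fin.ext h)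
      have h1 : mk _ (hM j) = mk _ hLinv := mk_congr (eqToIso (if_neg hj0))
      rw [h1, hmk, map_inv (pull (pr Ω A)), inv_inv]
  rw [e1, e2]
  have key := K219.TraceClosed.tr_mul hr hg1 (pull (pr Ω A) c) (bcHom Ω α)
  have hct : ((tr (EndAV.End.of (bcHom Ω α)) : ℚ) : ℚ_[l]) =
      ((LinearMap.trace ℤ_[l] (TateMod (bc Ω A) l (Over.mk (𝟙 (Spec (CommRingCat.of Ω)))))
        (tateMapₗ (bcHom Ω α)) : ℤ_[l]) : ℚ_[l]) :=
    cast_tr (K518.PolyA.poly (bc Ω A) hr) l hlΩ (EndAV.End.of (bcHom Ω α))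
  apply Subtype.coe_injective
  push_cast
  have key2 := congrArg (fun q : ℚ => (q : ℚ_[l])) key
  simp only [Rat.cast_mul, Rat.cast_natCast, Rat.cast_intCast] at key2
  rw [hct] at key2
  exact key2

end main

end K219.TraceBc
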