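import Groth.Agent.AbVar.K518.PolyA
import Groth.Agent.AbVar.K519.Trace

/-!
# `tr α · (H^g) = g · (H^{g-1} · D_H(α))` over an algebraically closed field
-/

set_option autoImplicit false
universe u

open CategoryTheory Limits MonoidalCategory CartesianMonoidalCategory AlgebraicGeometry
open scoped MonObj
open Groth.Agent.Grpsch.PicGrp Groth.Agent.Grpsch.Cube
open K518.Phi K518.AVNum

namespace K219.TraceClosed

variable {K : Type u} [Field K] [IsAlgClosed K] {A : Over (Spec (CommRingCat.of K))} [GrpObj A]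
  [IsProper A.hom] [GeometricallyIntegral A.hom]

theorem isMonHom_zpow (f : A ⟶ A) [IsMonHom f] (j : ℤ) : IsMonHom (f ^ j) := by
  have : IsCommMonObj A := isCommMonObj_of_isProper_of_geometricallyIntegral A
  have h := (j • EndAV.Hom.of f).isMonHom_toHom
  rwa [EndAV.Hom.toHom_zsmul] at h

/-- The class of `(α + j)^*L`, up to translation-invariant classes. -/
theorem class_eq (ℓ : Pic A.left) (α : A ⟶ A) [IsMonHom α] (j : ℤ) :
    pl (α * 𝟙 A ^ j) ℓ * (pl α ℓ * (D ℓ α (𝟙 A)) ^ j * ℓ ^ (j ^ 2))⁻¹ ∈ Inv A := by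
  have : IsCommMonObj A := isCommMonObj_of_isProper_of_geometricallyIntegral A
  have h2 : IsMonHom (𝟙 A ^ j : A ⟶ A) := isMonHom_zpow (𝟙 A) j
  have h3 : IsMonHom (α * 𝟙 A ^ j) := isMonHom_mul α (𝟙 A ^ j)
  rw [← phi_eq_iff]
  intro x
  have e1 : x ≫ (α * 𝟙 A ^ j) = (x ≫ α) * x ^ j := by
    rw [MonObj.comp_mul, GrpObj.comp_zpow, Category.comp_id]
  rw [phi_pl, e1, phi_mul, phi_zpow, map_mul, map_zpow,
    pl_mul_of_inv (phi_mem_Inv ℓ _), pl_mul_of_inv (phi_mem_Inv ℓ _), pl_zpow_of_inv (phi_mem_Inv ℓ _),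
    pl_zpow_of_inv (phi_mem_Inv ℓ _), pl_id, pl_id]
  rw [phi_mul_left, phi_mul_left, phi_pl, phi_zpow_left, phi_zpow_left, phi_D, Category.comp_id, pl_id]
  apply Additive.ofMul.injective
  simp only [ofMul_mul, ofMul_zpow]
  module

open K519.Charpoly K519.Trace K519.Nu

variable {r : ℕ} (hr : topologicalKrullDim A.left = r)

/-- `((α + j)^* c)^r = deg (α + j) (c^r)`. -/
theorem JA_pl (α : A ⟶ A) [IsMonHom α] (c : Fin r → Additive (Pic A.left)) :
    JA hr (fun i => Additive.ofMul (pl α (c i).toMul)) = nu α * JA hr c := by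
  by_cases h : IsFinite α.left
  · obtain ⟨hs, hfl, hfp⟩ := K518.DegPoly.surj_flat hr hr α
    exact K518.DegPoly.J_pl_hom hr hr α (nu α) (fun b => finrank_eq_nu r hr hr α b) c
  · rw [K518.DegPoly.J_pl_of_not_isFinite hr hr α h, nu_of_not_isFinite α h]
    simp

/-- **The trace formula over an algebraically closed field.** -/
theorem tr_mul [IsCommMonObj A] (hr1 : 1 ≤ r) (ℓ : Pic A.left) (α : A ⟶ A) [IsMonHom α] :
    tr (EndAV.End.of α) * ((JA hr (fun _ => Additive.ofMul ℓ) : ℤ) : ℚ) =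
      r * ((JA hr (Function.update (fun _ => Additive.ofMul ℓ) ⟨0, hr1⟩ (Additive.ofMul (D ℓ α (𝟙 A)))) : ℤ) : ℚ) := by
  classical
  obtain ⟨Q, hQ1, -, hQ2⟩ := K518.MulPoly.exists_poly (JA hr) (Additive.ofMul (pl α ℓ))
    (Additive.ofMul (K518.Phi.D ℓ α (𝟙 A))) (Additive.ofMul ℓ)
  have hQ2 := hQ2 hr1
  have hpoly := K518.PolyA.poly A hr
  obtain ⟨P', hP'⟩ := exists_poly hpoly (-EndAV.End.of α)
  have hP : ∀ j : ℤ, K519.Charpoly.D (EndAV.End.of α + (j : EndAV.End A)) = P'.eval (j : ℚ) := by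
    intro j
    rw [← hP' j, ← K519.Trace.D_neg r hr (EndAV.End.of α + (j : EndAV.End A))]
    congr 1
    abel
  have hP0 : P' ≠ 0 := ((monic_natDegree r hr hpoly (-EndAV.End.of α) P' hP').1).ne_zero
  have hval : ∀ j : ℤ, P'.eval (j : ℚ) ≠ 0 →
      P'.eval (j : ℚ) * ((JA hr (fun _ => Additive.ofMul ℓ) : ℤ) : ℚ) = (Q.eval j : ℤ) := by
    intro j _
    have h2 : IsMonHom (𝟙 A ^ j : A ⟶ A) := isMonHom_zpow (𝟙 A) j
    have h3 : IsMonHom (α * 𝟙 A ^ j) := isMonHom_mul α (𝟙 A ^ j)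
    have h4 := JA_pl hr (α * 𝟙 A ^ j) (fun _ => Additive.ofMul ℓ)
    have h6 : K519.Charpoly.D (EndAV.End.of α + (j : EndAV.End A)) = nu (α * 𝟙 A ^ j) := by
      rw [K519.Charpoly.D, EndAV.End.toHom_add, EndAV.End.toHom_intCast, EndAV.End.toHom_of]
    rw [← hP, h6, ← hQ1]
    have h5 : JA hr (fun _ => Additive.ofMul (pl α ℓ) + j • (Additive.ofMul (K518.Phi.D ℓ α (𝟙 A))) +
        j ^ 2 • (Additive.ofMul ℓ)) =
        JA hr (fun i => Additive.ofMul (pl (α * 𝟙 A ^ j) ((fun _ : Fin r => Additive.ofMul ℓ) i).toMul)) := by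
      rw [← K518.MulPoly.map_add_null (JA hr) {t | t.toMul ∈ Inv A} (fun t ht c i =>
        J_eq_zero_of_inv hr _ i (by rw [Function.update_self]; exact ht)) _
        (fun _ => Additive.ofMul (pl (α * 𝟙 A ^ j) ℓ * (pl α ℓ * (K518.Phi.D ℓ α (𝟙 A)) ^ j * ℓ ^ (j ^ 2))⁻¹))
        (fun _ => class_eq ℓ α j)]
      congr 1
      funext i
      simp only [toMul_ofMul, ofMul_mul, ofMul_inv, ofMul_zpow]
      module
    rw [h5, h4]
    push_cast
    rfl
  have hcoeff := K518.MulPoly.coeff_eq_of_eval P' hP0 Q _ hval (2 * r - 1)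
  rw [coeff_eq_tr hpoly r hr hr1 (EndAV.End.of α) P' hP, hQ2] at hcoeff
  rw [hcoeff]
  have h7 : ∀ i : Fin r, JA hr (Function.update (fun _ => Additive.ofMul ℓ) i (Additive.ofMul (K518.Phi.D ℓ α (𝟙 A)))) =
      JA hr (Function.update (fun _ => Additive.ofMul ℓ) ⟨0, hr1⟩ (Additive.ofMul (K518.Phi.D ℓ α (𝟙 A)))) := fun i =>
    K518.IntMul.J_update_swap K A.left hr.le i ⟨0, hr1⟩ _ _
  rw [Finset.sum_congr rfl fun i _ => h7 i, Finset.sum_const, Finset.card_univ, Fintype.card_fin]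
  push_cast
  simp

end K219.TraceClosed
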